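import Groth.Agent.EGA43.UnibranchFibre.Main
import Mathlib.AlgebraicGeometry.Sites.Fpqc
import Mathlib.AlgebraicGeometry.Morphisms.Etale
import Groth.Prelude.Def_Red

/-! A map with connected geometric fibres to a finite etale scheme is initial among maps to such schemes. -/

set_option autoImplicit false
set_option linter.style.haveILetI false
set_option backward.isDefEq.respectTransparency.types false

universe u

open CategoryTheory Limits AlgebraicGeometry

noncomputable section

namespace Groth.Agent.ConnQuot26

theorem geometricallyConnected_of_geomFibre {X C : Scheme.{u}} (c : X ⟶ C) [QuasiCompact c]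
    (h : ∀ s : C, ConnectedSpace ↥(Red.geomFibre s (Over.mk c)).left) : GeometricallyConnected c := by
  refine (GeometricallyConnected.iff_geometricallyConnected_fiber c).2 fun s => ?_
  haveI : ConnectedSpace ↥(pullback c (Red.geomPt s)) := h s
  refine EGA43.UnibranchFibre.geometricallyConnected_fibre_of_sepClosed c s
    (AlgebraicClosure (C.residueField s)) (Red.geomPt s) ?_
  rw [Red.geomPt, Scheme.Hom.comp_apply]
  exact Scheme.fromSpecResidueField_apply _ _

theorem exists_desc {S M C Y : Scheme.{u}} (c : M ⟶ C) [Flat c] [Surjective c] [QuasiCompact c]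
    [GeometricallyConnected c] (pC : C ⟶ S) (g : M ⟶ Y) (pY : Y ⟶ S) [IsSeparated pY] [Etale pY]
    (hw : c ≫ pC = g ≫ pY) : ∃ e : C ⟶ Y, c ≫ e = g := by
  let a := pullback.fst c c ≫ g
  let b := pullback.snd c c ≫ g
  have hab : a ≫ pY = b ≫ pY := by
    simp only [a, b, Category.assoc, ← hw, pullback.condition_assoc]
  let l := pullback.lift a b hab
  let Δ := pullback.diagonal pY
  let E : Set ↥(pullback c c) := l.base ⁻¹' Set.range Δ.base
  have hE : IsClopen E := IsClopen.preimage (s := Set.range Δ.base)
    ⟨Δ.isClosedEmbedding.isClosed_range, Δ.isOpenEmbedding.isOpen_range⟩ l.continuous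
  have hdiag : pullback.diagonal c ≫ l = g ≫ Δ := by
    apply pullback.hom_ext
    · rw [Category.assoc, show l ≫ pullback.fst pY pY = a from pullback.lift_fst _ _ _, Category.assoc,
        pullback.diagonal_fst, Category.comp_id, pullback.diagonal_fst_assoc]
    · rw [Category.assoc, show l ≫ pullback.snd pY pY = b from pullback.lift_snd _ _ _, Category.assoc,
        pullback.diagonal_snd, Category.comp_id, pullback.diagonal_snd_assoc]
  have huniv : Set.range l.base ⊆ Set.range Δ.base := by
    rintro _ ⟨z, rfl⟩
    let p := pullback.fst c c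
    have hconn := p.isConnected_preimage_singleton (p.base z)
    have hd : (pullback.diagonal c).base (p.base z) ∈ p.base ⁻¹' {p.base z} ∩ E := by
      refine ⟨?_, g.base (p.base z), ?_⟩
      · show p.base ((pullback.diagonal c).base (p.base z)) = p.base z
        rw [← Scheme.Hom.comp_apply, pullback.diagonal_fst]; rfl
      · exact (congrArg (fun r => r.base (p.base z)) hdiag).symm
    exact hconn.isPreconnected.subset_isClopen hE ⟨_, hd⟩ (Set.mem_singleton _)
  let m := IsOpenImmersion.lift Δ l huniv
  have hm : m ≫ Δ = l := IsOpenImmersion.lift_fac _ _ _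
  have heq : a = b := by
    have h1 : a = m := by
      rw [← pullback.lift_fst a b hab, show pullback.lift a b hab = l from rfl, ← hm, Category.assoc,
        pullback.diagonal_fst, Category.comp_id]
    have h2 : b = m := by
      rw [← pullback.lift_snd a b hab, show pullback.lift a b hab = l from rfl, ← hm, Category.assoc,
        pullback.diagonal_snd, Category.comp_id]
    exact h1.trans h2.symm
  refine ⟨EffectiveEpi.desc c g fun {Z} g₁ g₂ h => ?_, EffectiveEpi.fac c g _⟩
  have := congrArg (pullback.lift g₁ g₂ h ≫ ·) heq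
  simpa [a, b, pullback.lift_fst_assoc, pullback.lift_snd_assoc] using this

theorem existsUnique_iso {S : Scheme.{u}} {M C₁ C₂ : Over S} (c₁ : M ⟶ C₁) (c₂ : M ⟶ C₂)
    [Flat c₁.left] [Surjective c₁.left] [QuasiCompact c₁.left] [GeometricallyConnected c₁.left]
    [Flat c₂.left] [Surjective c₂.left] [QuasiCompact c₂.left] [GeometricallyConnected c₂.left]
    [IsSeparated C₁.hom] [Etale C₁.hom] [IsSeparated C₂.hom] [Etale C₂.hom] :
    ∃! e : C₁ ≅ C₂, c₁ ≫ e.hom = c₂ := by
  have hw₁ : c₁.left ≫ C₁.hom = c₂.left ≫ C₂.hom := by rw [Over.w, Over.w]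
  obtain ⟨e, he⟩ := exists_desc c₁.left C₁.hom c₂.left C₂.hom hw₁
  obtain ⟨e', he'⟩ := exists_desc c₂.left C₂.hom c₁.left C₁.hom hw₁.symm
  have he2 : e ≫ C₂.hom = C₁.hom := (cancel_epi c₁.left).1 (by rw [← Category.assoc, he, ← hw₁])
  have he'2 : e' ≫ C₁.hom = C₂.hom := (cancel_epi c₂.left).1 (by rw [← Category.assoc, he', hw₁])
  let E : C₁ ≅ C₂ := Over.isoMk
    { hom := e
      inv := e'
      hom_inv_id := (cancel_epi c₁.left).1 (by rw [← Category.assoc, he, he', Category.comp_id])
      inv_hom_id := (cancel_epi c₂.left).1 (by rw [← Category.assoc, he', he, Category.comp_id]) } he2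
  refine ⟨E, Over.OverMorphism.ext he, fun F hF => Iso.ext (Over.OverMorphism.ext ((cancel_epi c₁.left).1 ?_))⟩
  rw [← Over.comp_left, hF]
  exact he.symm

end Groth.Agent.ConnQuot26
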